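import Cfsg.Agent.H474.RealCo.DataThree
import Cfsg.Agent.H721.CoMat

/-!
# A subgroup `D14 × S3` of `Co3`, from explicit matrices (helper474)
-/

set_option autoImplicit false

namespace Cfsg.Agent.H474.RealCo

open Cfsg Cfsg.Agent.SporadicA.GolayBase Cfsg.Agent.Leech.Enc Cfsg.Agent.Leech.Word
open Cfsg.Agent.SporadicA.Co0Mono
open Cfsg.Agent.SporadicStructure.Co0Base (e8 e8_coe co0_ext_e8)
open Cfsg.Agent.CoOneType.Thirteen (pk pk_spec vec_pk smul_e8)
open Cfsg.Agent.H721.CoMat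

theorem ev_append (g h : Co0) (u v : List ℕ) : ev g h (u ++ v) = ev g h v * ev g h u := by
  induction u with
  | nil => rw [List.nil_append]; exact (mul_one _).symm
  | cons k u ih =>
    rw [List.cons_append]
    change ev g h (u ++ v) * _ = ev g h v * (ev g h u * _)
    rw [ih, mul_assoc]

theorem ev_rep0 (g h : Co0) (n : ℕ) : ev g h (List.replicate n 0) = g ^ n := by
  induction n with
  | zero => rfl
  | succ n ih =>
    rw [List.replicate_succ, pow_succ]
    change ev g h (List.replicate n 0) * _ = _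
    rw [ih, if_pos rfl]

theorem ev_rep1 (g h : Co0) (n : ℕ) : ev g h (List.replicate n 1) = h ^ n := by
  induction n with
  | zero => rfl
  | succ n ih =>
    rw [List.replicate_succ, pow_succ]
    change ev g h (List.replicate n 1) * _ = _
    rw [ih, if_neg one_ne_zero]

/-- blocks `(b, n)`: the word `b b ... b` (`n` times) -/
def blk : List (ℕ × ℕ) → List ℕ
  | [] => []
  | x :: l => List.replicate x.2 x.1 ++ blk l

def evb (g h : Co0) : List (ℕ × ℕ) → Co0
  | [] => 1
  | x :: l => evb g h l * (if x.1 = 0 then g else h) ^ x.2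

theorem ev_blk (g h : Co0) (l : List (ℕ × ℕ)) (hl : ∀ x ∈ l, x.1 < 2) : ev g h (blk l) = evb g h l := by
  induction l with
  | nil => rfl
  | cons x l ih =>
    change ev g h (List.replicate x.2 x.1 ++ blk l) = evb g h l * (if x.1 = 0 then g else h) ^ x.2
    rw [ev_append, ih fun y hy => hl y (List.mem_cons_of_mem _ hy)]
    congr 1
    have hx := hl x List.mem_cons_self
    rcases (by omega : x.1 = 0 ∨ x.1 = 1) with h1 | h1
    · rw [h1, if_pos rfl]; exact ev_rep0 _ _ _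
    · rw [h1, if_neg one_ne_zero]; exact ev_rep1 _ _ _

theorem checkW1 : Leech.Bridge.checkAll W1 = true := by decide +kernel
theorem checkW2 : Leech.Bridge.checkAll W2 = true := by decide +kernel

/-- the packed vector `v` -/
def XV : ℕ := 11205563059660514476264635066334972674967288839189324329283752455989465584756003577977233423

theorem leechV_eq : (Spor.leechV : GolayPt → ℤ) = vec XV := by
  funext i
  change Spor.vecV i = vec XV i
  revert i
  decide +kernel

def b1 : List (ℕ × ℕ) := [(0, 6)]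
def b2 : List (ℕ × ℕ) := [(1, 14)]
def b3 : List (ℕ × ℕ) := [(1, 8), (0, 3), (1, 8), (0, 3)]
def b4 : List (ℕ × ℕ) := [(1, 6), (0, 2), (1, 8), (0, 4)]
def b5 : List (ℕ × ℕ) := [(0, 4), (1, 7), (0, 4), (1, 7)]

theorem r1 : fixAll W1 W2 (blk b1) = true := by decide +kernel
theorem r2 : fixAll W1 W2 (blk b2) = true := by decide +kernel
theorem r3 : fixAll W1 W2 (blk b3) = true := by decide +kernel
theorem r4 : fixAll W1 W2 (blk b4) = true := by decide +kernel
theorem r5 : fixAll W1 W2 (blk b5) = true := by decide +kernel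

theorem blk_lt (l : List (ℕ × ℕ)) (hl : ∀ x ∈ l, x.1 < 2) : ∀ k ∈ blk l, k < 2 := by
  induction l with
  | nil => intro k hk; exact absurd hk List.not_mem_nil
  | cons x l ih =>
    intro k hk
    change k ∈ List.replicate x.2 x.1 ++ blk l at hk
    rcases List.mem_append.1 hk with h | h
    · rw [List.eq_of_mem_replicate h]; exact hl x List.mem_cons_self
    · exact ih (fun y hy => hl y (List.mem_cons_of_mem _ hy)) k h

theorem rel_of {g h : Co0} (hg : IsMat W1 g) (hh : IsMat W2 h) {l : List (ℕ × ℕ)} (hl : ∀ x ∈ l, x.1 < 2)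
    (hr : fixAll W1 W2 (blk l) = true) : evb g h l = 1 := by
  rw [← ev_blk g h l hl]
  exact ev_eq_one hg hh (blk_lt l hl) hr

theorem ne_one_of {g h : Co0} (hg : IsMat W1 g) (hh : IsMat W2 h) {l : List (ℕ × ℕ)} (hl : ∀ x ∈ l, x.1 < 2)
    {Y : ℕ} (hr : run [W1, W2] (blk l) (pk 0) Y = true) (hY : dig Y 0 ≠ 24) : evb g h l ≠ 1 := by
  intro h1
  rw [← ev_blk g h l hl] at h1
  have h2 := run_ev hg hh Y (blk l) (pk 0) (blk_lt l hl) (pk_spec (by norm_num)).1 hr (e8 (some 0)) (vec_pk _)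
  rw [h1, one_smul] at h2
  have h3 := congrFun h2 (some 0)
  rw [e8_coe, Pi.single_eq_same, vec_apply] at h3
  have h4 : idx (some 0) = 0 := rfl
  rw [h4] at h3
  apply hY
  omega

theorem exists_elements : ∃ g h : Spor.Co3, g ^ 6 = 1 ∧ h ^ 14 = 1 ∧ (g ^ 3 * h ^ 8) ^ 2 = 1 ∧
    g ^ 4 * h ^ 8 = h ^ 8 * g ^ 4 ∧ (h ^ 7 * g ^ 4) ^ 2 = 1 ∧ g ^ 4 ≠ 1 ∧ h ^ 8 ≠ 1 := by
  obtain ⟨g, hg⟩ := Leech.Bridge.exists_isMat checkW1
  obtain ⟨h, hh⟩ := Leech.Bridge.exists_isMat checkW2
  have fg : g • Spor.leechV = Spor.leechV :=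
    Leech.Bridge.smul_eq_self hg (X := XV) (by decide +kernel) (by decide +kernel) _ leechV_eq
  have fh : h • Spor.leechV = Spor.leechV :=
    Leech.Bridge.smul_eq_self hh (X := XV) (by decide +kernel) (by decide +kernel) _ leechV_eq
  have e1 := rel_of hg hh (l := b1) (by decide) r1
  have e2 := rel_of hg hh (l := b2) (by decide) r2
  have e3 := rel_of hg hh (l := b3) (by decide) r3
  have e4 := rel_of hg hh (l := b4) (by decide) r4
  have e5 := rel_of hg hh (l := b5) (by decide) r5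
  have n1 := ne_one_of hg hh (l := [(0, 4)]) (by decide)
    (Y := 18335064630850570857552780820063320992877416425563103137705195071198316768451610191889301520)
    (by decide +kernel) (by decide +kernel)
  have n2 := ne_one_of hg hh (l := [(1, 8)]) (by decide)
    (Y := 18335064691558973739606827765446986444140917045635198769713194932044464181505971425179189264)
    (by decide +kernel) (by decide +kernel)
  simp only [evb, b1, b2, b3, b4, b5, one_mul, if_true, one_ne_zero, if_false] at e1 e2 e3 e4 e5 n1 n2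
  have hc : ∀ u v : Co0, u = v → (u : Equiv.Perm leechLattice) = v := fun _ _ h => congrArg Subtype.val h
  refine ⟨⟨g, g.2, fg⟩, ⟨h, h.2, fh⟩, ?_, ?_, ?_, ?_, ?_, ?_, ?_⟩
  · exact Subtype.ext (hc (g ^ 6) 1 e1)
  · exact Subtype.ext (hc (h ^ 14) 1 e2)
  · refine Subtype.ext (hc ((g ^ 3 * h ^ 8) ^ 2) 1 ?_)
    rw [pow_two, ← e3]
    group
  · refine Subtype.ext (hc (g ^ 4 * h ^ 8) (h ^ 8 * g ^ 4) ?_)
    have h1 : g ^ 4 * h ^ 8 * (g ^ 2 * h ^ 6) = 1 := by rw [← e4]; group
    have h2 : g ^ 2 = (g ^ 4)⁻¹ := by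
      rw [eq_inv_iff_mul_eq_one, ← pow_add]; exact e1
    have h3 : h ^ 6 = (h ^ 8)⁻¹ := by
      rw [eq_inv_iff_mul_eq_one, ← pow_add]; exact e2
    rw [h2, h3, ← mul_inv_rev, mul_inv_eq_one] at h1
    exact h1
  · refine Subtype.ext (hc ((h ^ 7 * g ^ 4) ^ 2) 1 ?_)
    rw [pow_two, ← e5]
    group
  · intro hn
    exact n1 (Subtype.ext (congrArg (fun u : Spor.Co3 => (u : Equiv.Perm leechLattice)) hn))
  · intro hn
    exact n2 (Subtype.ext (congrArg (fun u : Spor.Co3 => (u : Equiv.Perm leechLattice)) hn))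

/-- `D14 × S3` -/
theorem exists_four : ∃ a y r s : Spor.Co3, orderOf a = 7 ∧ orderOf y = 3 ∧ a * y = y * a ∧ r * a = a * r ∧
    r * y * r⁻¹ = y⁻¹ ∧ s * y = y * s ∧ s * a * s⁻¹ = a⁻¹ := by
  obtain ⟨g, h, e1, e2, e3, e4, e5, n1, n2⟩ := exists_elements
  have : Fact (Nat.Prime 7) := ⟨by norm_num⟩
  have : Fact (Nat.Prime 3) := ⟨by norm_num⟩
  have hinv : ∀ {u v : Spor.Co3}, u ^ 2 = 1 → (u * v) ^ 2 = 1 → u * v * u⁻¹ = v⁻¹ := by
    intro u v hu huv
    have h1 : u⁻¹ = u := by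
      rw [inv_eq_iff_mul_eq_one, ← pow_two]; exact hu
    rw [h1, eq_inv_iff_mul_eq_one, mul_assoc, ← pow_two]
    exact huv
  refine ⟨h ^ 8, g ^ 4, h ^ 7, g ^ 3, orderOf_eq_prime ?_ n2, orderOf_eq_prime ?_ n1, e4.symm, ?_,
    hinv ?_ e5, ?_, hinv ?_ e3⟩
  · rw [← pow_mul, show 8 * 7 = 14 * 4 by norm_num, pow_mul, e2, one_pow]
  · rw [← pow_mul, show 4 * 3 = 6 * 2 by norm_num, pow_mul, e1, one_pow]
  · rw [← pow_add, ← pow_add]
  · rw [← pow_mul]; exact e2
  · rw [← pow_add, ← pow_add]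
  · rw [← pow_mul]; exact e1

end Cfsg.Agent.H474.RealCo
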