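import Cfsg.Agent.H721.CoM24
import Cfsg.Agent.H661.SporHN

/-!
# Real elements of order 3 of `Co1`, `Co2`, `Co3` and of order 7 of `Co2` (helper474)
-/

set_option autoImplicit false

namespace Cfsg.Agent.H474.RealCo

open Cfsg Cfsg.Agent.SporadicA.GolayBase Cfsg.Agent.SporadicStructure.TabPerm
open Cfsg.Agent.SporadicA.Co0Mono
open Cfsg.Agent.H722.RealP Cfsg.Agent.H721.Base Cfsg.Agent.H721.CoM24
open Cfsg.Agent.CoOneType.Thirteen (permCo0_injective)

def U3 : List ℕ := [0, 3, 2, 1, 12, 17, 13, 7, 8, 18, 10, 21, 4, 6, 14, 19, 16, 5, 9, 15, 22, 11, 20, 23]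
def V3 : List ℕ := [0, 7, 2, 3, 4, 15, 19, 1, 8, 9, 12, 14, 10, 17, 11, 5, 18, 13, 16, 6, 22, 21, 20, 23]

theorem chkU3 : chk U3 U3 = true := by decide +kernel
theorem chkV3 : chk V3 V3 = true := by decide +kernel

def u3 : M24 := ⟨tabPerm U3 U3 chkU3, tabPerm_mem_M24 _ _ _ (by decide +kernel)⟩
def v3 : M24 := ⟨tabPerm V3 V3 chkV3, tabPerm_mem_M24 _ _ _ (by decide +kernel)⟩

theorem pow3 : (u3 * v3) ^ 3 = 1 := pow_of (by decide +kernel)
theorem ne3 : u3 ≠ v3 := ne_of (i := 1) (by norm_num) (by decide +kernel)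

theorem sub_three {Γ : Subgroup (Equiv.Perm leechLattice)} (hu : (permCo0 u3 : Equiv.Perm leechLattice) ∈ Γ)
    (hv : (permCo0 v3 : Equiv.Perm leechLattice) ∈ Γ) : HasReal 3 Γ := by
  refine hasReal_of_pair (u := ⟨_, hu⟩) (v := ⟨_, hv⟩) Nat.prime_three ?_ ?_ ?_ ?_
  · have h : permCo0 u3 * permCo0 u3 = 1 := by rw [← map_mul, show u3 * u3 = 1 from sq_of, map_one]
    have h' := congrArg Subtype.val h
    exact Subtype.ext h'
  · have h : permCo0 v3 * permCo0 v3 = 1 := by rw [← map_mul, show v3 * v3 = 1 from sq_of, map_one]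
    have h' := congrArg Subtype.val h
    exact Subtype.ext h'
  · have h : (permCo0 u3 * permCo0 v3) ^ 3 = 1 := by rw [← map_mul, ← map_pow, pow3, map_one]
    have h' := congrArg Subtype.val h
    exact Subtype.ext h'
  · intro h
    have h1 := congrArg (fun g : Γ => (g : Equiv.Perm leechLattice)) h
    exact ne3 (permCo0_injective (Subtype.ext h1))

theorem fu : permCo0 u3 • Spor.leechU = Spor.leechU ∧ permCo0 u3 • Spor.leechV = Spor.leechV ∧
    permCo0 u3 • Spor.leechU' = Spor.leechU' := fix_vecs (by decide) (by decide)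

theorem fv : permCo0 v3 • Spor.leechU = Spor.leechU ∧ permCo0 v3 • Spor.leechV = Spor.leechV ∧
    permCo0 v3 • Spor.leechU' = Spor.leechU' := fix_vecs (by decide) (by decide)

theorem co2_three : HasReal 3 Spor.Co2 :=
  sub_three ⟨(permCo0 u3).2, mem_stab fu.1⟩ ⟨(permCo0 v3).2, mem_stab fv.1⟩

theorem co3_three : HasReal 3 Spor.Co3 :=
  sub_three ⟨(permCo0 u3).2, mem_stab fu.2.1⟩ ⟨(permCo0 v3).2, mem_stab fv.2.1⟩

theorem mcl_three : HasReal 3 Spor.McL :=
  sub_three ⟨⟨(permCo0 u3).2, mem_stab fu.2.1⟩, mem_stab fu.1⟩ ⟨⟨(permCo0 v3).2, mem_stab fv.2.1⟩, mem_stab fv.1⟩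

theorem hs_three : HasReal 3 Spor.HS :=
  sub_three ⟨⟨(permCo0 u3).2, mem_stab fu.2.1⟩, mem_stab fu.2.2⟩
    ⟨⟨(permCo0 v3).2, mem_stab fv.2.1⟩, mem_stab fv.2.2⟩

theorem co0_three : HasReal 3 Co0 :=
  co3_three.map_injective (Subgroup.inclusion (inf_le_left : Spor.Co3 ≤ Co0)) (Subgroup.inclusion_injective _)

theorem co1_three : HasReal 3 Spor.Co1 := co1_of Nat.prime_three (by norm_num) co0_three

/-! ### order 7 in `Co2` -/

/-- a codeword with values `1` at `some 0` and `0` at `none` -/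
theorem exists_word : ∃ c : golayCode, (c : GolayPt → ZMod 2) (some 0) = 1 ∧ (c : GolayPt → ZMod 2) none = 0 := by
  refine ⟨⟨qrWord 0, Submodule.subset_span (Or.inl ⟨0, rfl⟩)⟩, ?_, rfl⟩
  have h : (∃ r : ZMod 23, (0 : ZMod 23) = r ^ 2 + 0) := ⟨0, by decide⟩
  change (if (∃ r : ZMod 23, (0 : ZMod 23) = r ^ 2 + 0) then (1 : ZMod 2) else 0) = 1
  rw [if_pos h]

theorem exists_sign : ∃ g : Co0, g • Spor.leechU' = Spor.leechU := by
  obtain ⟨c, h1, h2⟩ := exists_word
  refine ⟨signCo0 c, ?_⟩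
  apply Subtype.ext
  funext i
  rw [signCo0_smul, signMap_apply]
  change sgn ((c : GolayPt → ZMod 2) i) * Spor.vecU' i = Spor.vecU i
  unfold Spor.vecU' Spor.vecU
  by_cases hn : i = none
  · subst hn
    rw [h2, sgn_zero, if_pos rfl, if_pos (Or.inl rfl)]
    norm_num
  · by_cases h0 : i = some 0
    · subst h0
      rw [h1, sgn_one, if_neg hn, if_pos rfl, if_pos (Or.inr rfl)]
      norm_num
    · rw [if_neg hn, if_neg h0, if_neg (by rintro (h | h); exacts [hn h, h0 h]), mul_zero]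

theorem co2_seven : HasReal 7 Spor.Co2 := by
  obtain ⟨g, hg⟩ := exists_sign
  let c := MulAut.conj (g : Equiv.Perm leechLattice)
  let f : Spor.HS →* Spor.Co2 :=
    (c.toMonoidHom.comp (Spor.HS).subtype).codRestrict Spor.Co2 (fun x => by
      refine ⟨Co0.mul_mem (Co0.mul_mem g.2 x.2.1.1) (Co0.inv_mem g.2), ?_⟩
      have hx : (x : Equiv.Perm leechLattice) • Spor.leechU' = Spor.leechU' := x.2.2
      have hg' : (g : Equiv.Perm leechLattice) • Spor.leechU' = Spor.leechU := hg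
      change ((g : Equiv.Perm leechLattice) * x * (g : Equiv.Perm leechLattice)⁻¹) • Spor.leechU = Spor.leechU
      rw [← hg', mul_smul, inv_smul_smul, mul_smul, hx])
  refine Cfsg.Agent.H661.Spor.HS.hasReal.map_injective f ?_
  intro a b hab
  have h1 := congrArg Subtype.val hab
  have h2 : c a = c b := h1
  exact Subtype.ext (c.injective h2)

end Cfsg.Agent.H474.RealCo
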