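import Cfsg.Agent.H702.SieveTools

/-!
# More consequences of the sieve data `Exc p S` (helper474)

* `sum_sq_le`: `t ∑ v(g)² ≤ |S|` over the `p`-regular elements;
* `sum_class_le`: the same in terms of centralisers of pairwise nonconjugate elements;
* `one_add_le_index`: `1 + t x ≤ |S : H|` for every `p'`-subgroup `H`.
-/

set_option autoImplicit false

open scoped ComplexConjugate
open Cfsg

namespace Cfsg.Agent.H702.Sieve

open Cfsg.Agent.Characters Cfsg.Agent.MTwelve.BlockData Cfsg.Agent.H702.RealB0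
open Cfsg.Agent.S4490 (cj cj_apply cj_cj cj_one)

universe u

namespace Exc

variable {p : ℕ} [hp : Fact p.Prime] {S : Type u} [Group S] [Finite S] (E : Exc p S)

omit hp in
theorem sum_inner [Fintype S] : ∑ g : S, (∑ Θ ∈ E.B.X, (Θ : S → ℂ) g) * conj (∑ Θ ∈ E.B.X, (Θ : S → ℂ) g) =
    (E.t : ℂ) * (Nat.card S : ℂ) := by
  classical
  have hne : (Nat.card S : ℂ) ≠ 0 := Core.card_ne_zero_complex
  have horth : ∀ Θ Θ' : IrrCharacter S, ∑ g : S, (Θ : S → ℂ) g * conj ((Θ' : S → ℂ) g) =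
      if Θ = Θ' then (Nat.card S : ℂ) else 0 := by
    intro Θ Θ'
    by_cases h : Θ = Θ'
    · subst h
      rw [if_pos rfl]
      have h1 := Core.classInner_irr_self Θ.2
      rw [Core.classInner_def, inv_mul_eq_one₀ hne] at h1
      exact h1.symm
    · rw [if_neg h]
      have h1 := Core.classInner_irr_ne Θ.2 Θ'.2 (fun h2 => h (Subtype.ext h2))
      rw [Core.classInner_def] at h1
      exact (mul_eq_zero.1 h1).resolve_left (inv_ne_zero hne)
  have h1 : ∀ g : S, (∑ Θ ∈ E.B.X, (Θ : S → ℂ) g) * conj (∑ Θ ∈ E.B.X, (Θ : S → ℂ) g) =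
      ∑ Θ ∈ E.B.X, ∑ Θ' ∈ E.B.X, (Θ : S → ℂ) g * conj ((Θ' : S → ℂ) g) := by
    intro g
    rw [map_sum, Finset.sum_mul_sum]
  rw [Finset.sum_congr rfl fun g _ => h1 g, Finset.sum_comm]
  have h2 : ∀ Θ ∈ E.B.X, ∑ g : S, ∑ Θ' ∈ E.B.X, (Θ : S → ℂ) g * conj ((Θ' : S → ℂ) g) = (Nat.card S : ℂ) := by
    intro Θ hΘ
    rw [Finset.sum_comm, Finset.sum_congr rfl fun Θ' _ => horth Θ Θ', Finset.sum_ite_eq, if_pos hΘ]
  rw [Finset.sum_congr rfl h2, Finset.sum_const, E.B.card_X, nsmul_eq_mul]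

/-- `t ∑ v(g)² ≤ |S|` over a set of `p`-regular elements. -/
theorem sum_sq_le (T : Finset S) (hT : ∀ g ∈ T, ¬ p ∣ orderOf g) :
    (E.t : ℤ) * ∑ g ∈ T, E.v g ^ 2 ≤ (Nat.card S : ℤ) := by
  classical
  have := Fintype.ofFinite S
  have h0 := E.sum_inner
  have h1 : (∑ g : S, ‖∑ Θ ∈ E.B.X, (Θ : S → ℂ) g‖ ^ 2 : ℝ) = (E.t : ℝ) * (Nat.card S : ℝ) := by
    have h2 : ((∑ g : S, ‖∑ Θ ∈ E.B.X, (Θ : S → ℂ) g‖ ^ 2 : ℝ) : ℂ) = (((E.t : ℝ) * (Nat.card S : ℝ) : ℝ) : ℂ) := by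
      push_cast
      rw [← h0]
      refine Finset.sum_congr rfl fun g _ => ?_
      rw [Complex.mul_conj']
    exact_mod_cast h2
  have h2 : (∑ g ∈ T, ‖∑ Θ ∈ E.B.X, (Θ : S → ℂ) g‖ ^ 2 : ℝ) ≤ (E.t : ℝ) * (Nat.card S : ℝ) := by
    rw [← h1]
    exact Finset.sum_le_sum_of_subset_of_nonneg (Finset.subset_univ _) fun _ _ _ => by positivity
  have h3 : ∀ g ∈ T, ‖∑ Θ ∈ E.B.X, (Θ : S → ℂ) g‖ ^ 2 = (E.t : ℝ) ^ 2 * ((E.v g : ℤ) : ℝ) ^ 2 := by
    intro g hg
    rw [Finset.sum_congr rfl fun Θ hΘ => E.apply_X Θ hΘ g (hT g hg), Finset.sum_const, E.B.card_X, nsmul_eq_mul,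
      norm_mul, Complex.norm_natCast, Complex.norm_intCast, mul_pow, sq_abs]
  rw [Finset.sum_congr rfl h3, ← Finset.mul_sum] at h2
  have ht : (0 : ℝ) < E.t := by exact_mod_cast E.t_pos
  have h4 : (E.t : ℝ) * ∑ g ∈ T, ((E.v g : ℤ) : ℝ) ^ 2 ≤ (Nat.card S : ℝ) := by
    have h5 : (E.t : ℝ) * ((E.t : ℝ) * ∑ g ∈ T, ((E.v g : ℤ) : ℝ) ^ 2) ≤ (E.t : ℝ) * (Nat.card S : ℝ) := by
      calc (E.t : ℝ) * ((E.t : ℝ) * ∑ g ∈ T, ((E.v g : ℤ) : ℝ) ^ 2) =
          (E.t : ℝ) ^ 2 * ∑ g ∈ T, ((E.v g : ℤ) : ℝ) ^ 2 := by ring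
        _ ≤ _ := h2
    exact le_of_mul_le_mul_left h5 ht
  exact_mod_cast h4

/-- The conjugacy class of `g` has `|S : C(g)|` elements; two nonconjugate elements. -/
theorem sum_class_le {g h : S} (hg : ¬ p ∣ orderOf g) (hh : ¬ p ∣ orderOf h) (hne : ¬ IsConj g h) :
    (E.t : ℤ) * ((Subgroup.centralizer ({g} : Set S)).index * E.v g ^ 2 +
      (Subgroup.centralizer ({h} : Set S)).index * E.v h ^ 2) ≤ (Nat.card S : ℤ) := by
  classical
  have := Fintype.ofFinite S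
  have hcard : ∀ x : S, ((Finset.univ.filter fun y : S => IsConj x y).card : ℤ) =
      (Subgroup.centralizer ({x} : Set S)).index := by
    intro x
    rw [Blocks.Basic.index_centralizer_eq_ncard, ← Set.ncard_coe_finset]
    congr 2
    ext y
    rw [Finset.mem_coe, Finset.mem_filter]
    exact ⟨fun h => h.2, fun h => ⟨Finset.mem_univ _, h⟩⟩
  have hreg : ∀ x y : S, ¬ p ∣ orderOf x → IsConj x y → ¬ p ∣ orderOf y := by
    intro x y hx hc
    obtain ⟨c, hc'⟩ := isConj_iff.1 hc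
    have h2 : orderOf y = orderOf x := by
      rw [← hc']
      have := orderOf_injective (MulAut.conj c).toMonoidHom (MulAut.conj c).injective x
      simpa using this
    rwa [h2]
  have h1 := E.sum_sq_le ((Finset.univ.filter fun y : S => IsConj g y) ∪ (Finset.univ.filter fun y : S => IsConj h y)) (by
    intro y hy
    rcases Finset.mem_union.1 hy with hy | hy
    · exact hreg g y hg (Finset.mem_filter.1 hy).2
    · exact hreg h y hh (Finset.mem_filter.1 hy).2)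
  rw [Finset.sum_union (by
    rw [Finset.disjoint_left]
    intro y hy hy'
    exact hne ((Finset.mem_filter.1 hy).2.trans (Finset.mem_filter.1 hy').2.symm)),
    Finset.sum_congr rfl fun y hy => by rw [← E.v_conj hg (Finset.mem_filter.1 hy).2]] at h1
  rw [Finset.sum_const, Finset.sum_congr rfl fun y hy => by rw [← E.v_conj hh (Finset.mem_filter.1 hy).2],
    Finset.sum_const, nsmul_eq_mul, nsmul_eq_mul, hcard, hcard] at h1
  exact h1

/-- `1 + t x ≤ |S : H|` for every `p'`-subgroup `H`. -/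
theorem one_add_le_index (H : Subgroup S) (hH : ∀ h ∈ H, ¬ p ∣ orderOf h) :
    1 + (E.t : ℤ) * E.v 1 ≤ (H.index : ℤ) := by
  classical
  have := Fintype.ofFinite S
  have : Fintype H := Fintype.ofFinite H
  have hfin : Finite (IrrCharacter S) := Core.finite_irr
  have hft : Fintype (IrrCharacter S) := Fintype.ofFinite _
  have hH0 : (Nat.card H : ℂ) ≠ 0 := Core.card_ne_zero_complex
  choose a ha using fun χ : IrrCharacter S => exists_sum_eq (Core.isIrr_isCharacter χ.2) H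
  -- the degrees
  have hsum : ∑ χ : IrrCharacter S, deg χ * a χ = H.index := by
    have h1 : ∑ χ : IrrCharacter S, (χ : S → ℂ) 1 * conj (∑ h : H, (χ : S → ℂ) h) = (Nat.card S : ℂ) := by
      have h2 : ∀ χ : IrrCharacter S, (χ : S → ℂ) 1 * conj (∑ h : H, (χ : S → ℂ) h) =
          ∑ h : H, (χ : S → ℂ) 1 * conj ((χ : S → ℂ) h) := by
        intro χ
        rw [map_sum, Finset.mul_sum]
      rw [Finset.sum_congr rfl fun χ _ => h2 χ, Finset.sum_comm, Finset.sum_eq_single (1 : H)]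
      · have h3 := (Cfsg.Agent.S0145.result (1 : S) (1 : S)).1 (IsConj.refl _)
        rw [finsum_eq_sum_of_fintype] at h3
        have h4 : Nat.card (Subgroup.centralizer ({1} : Set S)) = Nat.card S := by
          have h5 : Subgroup.centralizer ({1} : Set S) = ⊤ := by
            rw [eq_top_iff]
            intro x _
            rw [Subgroup.mem_centralizer_singleton_iff]
            simp
          rw [h5]
          exact Nat.card_congr Subgroup.topEquiv.toEquiv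
        rw [h4] at h3
        exact h3
      · intro h _ hh
        have h3 := (Cfsg.Agent.S0145.result (1 : S) (h : S)).2 (fun hc => hh (Subtype.ext (isConj_one_right.1 hc)))
        rwa [finsum_eq_sum_of_fintype] at h3
      · intro h
        exact absurd (Finset.mem_univ _) h
    have h2 : ∀ χ : IrrCharacter S, (χ : S → ℂ) 1 * conj (∑ h : H, (χ : S → ℂ) h) =
        (Nat.card H : ℂ) * ((deg χ * a χ : ℕ) : ℂ) := by
      intro χ
      rw [ha, apply_one, map_mul, map_natCast, map_natCast]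
      push_cast
      ring
    rw [Finset.sum_congr rfl fun χ _ => h2 χ, ← Finset.mul_sum, ← Subgroup.card_mul_index H] at h1
    push_cast at h1
    have h3 := mul_left_cancel₀ hH0 h1
    exact_mod_cast h3
  -- the trivial character
  have htriv : a (triv S) = 1 := by
    have h1 := ha (triv S)
    have h2 : ∑ h : H, ((triv S : IrrCharacter S) : S → ℂ) h = (Nat.card H : ℂ) := by
      have h3 : ∑ h : H, ((triv S : IrrCharacter S) : S → ℂ) h = ∑ _h : H, (1 : ℂ) :=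
        Finset.sum_congr rfl fun h _ => triv_apply (h : S)
      rw [h3, Finset.sum_const, Finset.card_univ, nsmul_eq_mul, mul_one, Nat.card_eq_fintype_card]
    rw [h2] at h1
    have h3 : (a (triv S) : ℂ) = 1 := by
      have h4 : (Nat.card H : ℂ) * (a (triv S) : ℂ) = (Nat.card H : ℂ) * 1 := by rw [← h1, mul_one]
      exact mul_left_cancel₀ hH0 h4
    exact_mod_cast h3
  have hcj : ∀ χ : IrrCharacter S, a (cj χ) = a χ := by
    intro χ
    have h1 := ha (cj χ)
    have h2 : ∑ h : H, ((cj χ : IrrCharacter S) : S → ℂ) h = conj (∑ h : H, (χ : S → ℂ) h) := by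
      rw [map_sum]
      exact Finset.sum_congr rfl fun h _ => cj_apply _ _
    rw [h2, ha, map_mul, map_natCast, map_natCast] at h1
    exact_mod_cast (mul_left_cancel₀ hH0 h1).symm
  -- the parity
  have hrel : ∀ Θ ∈ E.B.X, ∑ χ ∈ E.B.NE, E.B.ε χ * (a χ : ℤ) = E.B.d * (a Θ : ℤ) := by
    intro Θ hΘ
    have h1 : ∑ h : H, ∑ χ ∈ E.B.NE, (E.B.ε χ : ℂ) * (χ : S → ℂ) h = ∑ h : H, (E.B.d : ℂ) * (Θ : S → ℂ) h :=
      Finset.sum_congr rfl fun h _ => E.B.rel Θ hΘ h (hH h h.2)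
    rw [Finset.sum_comm, ← Finset.mul_sum, ha,
      Finset.sum_congr rfl fun χ _ => by rw [← Finset.mul_sum, ha]] at h1
    have h2 : (Nat.card H : ℂ) * ∑ χ ∈ E.B.NE, (E.B.ε χ : ℂ) * (a χ : ℂ) =
        (Nat.card H : ℂ) * ((E.B.d : ℂ) * (a Θ : ℂ)) := by
      rw [Finset.mul_sum]
      calc _ = ∑ χ ∈ E.B.NE, (E.B.ε χ : ℂ) * ((Nat.card H : ℂ) * (a χ : ℂ)) :=
            Finset.sum_congr rfl fun χ _ => by ring
        _ = _ := h1
        _ = _ := by ring
    have h3 := mul_left_cancel₀ hH0 h2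
    exact_mod_cast h3
  have hodd : ∀ Θ ∈ E.B.X, 1 ≤ a Θ := by
    intro Θ hΘ
    by_contra h0
    have h1 := hrel Θ hΘ
    have h2 : a Θ = 0 := by omega
    rw [h2, Nat.cast_zero, mul_zero] at h1
    have h3 : (∑ χ ∈ E.B.NE, ((E.B.ε χ * (a χ : ℤ) : ℤ) : ZMod 2)) = 0 := by
      rw [← Int.cast_sum, h1, Int.cast_zero]
    rw [← Finset.add_sum_erase _ _ E.B.triv_mem, E.B.ε_triv, htriv] at h3
    have h4 : ∑ χ ∈ E.B.NE.erase (triv S), ((E.B.ε χ * (a χ : ℤ) : ℤ) : ZMod 2) = 0 := by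
      refine Finset.sum_involution (fun χ _ => cj χ) ?_ ?_ ?_ ?_
      · intro χ hχ
        have h5 := Finset.mem_of_mem_erase hχ
        rw [E.ε_cj χ h5, hcj]
        exact CharTwo.add_self_eq_zero _
      · intro χ hχ _ h6
        exact Finset.ne_of_mem_erase hχ (E.cj_ne χ (Finset.mem_of_mem_erase hχ) h6)
      · intro χ hχ
        have h5 := Finset.mem_of_mem_erase hχ
        refine Finset.mem_erase.2 ⟨fun h6 => Finset.ne_of_mem_erase hχ ?_, E.cj_NE χ h5⟩
        have h7 : cj (cj χ) = cj (triv S) := by rw [h6]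
        rw [cj_cj] at h7
        rw [h7]
        apply Subtype.ext
        funext x
        rw [cj_apply, triv_apply, map_one]
      · intro χ hχ
        exact cj_cj χ
    rw [h4] at h3
    norm_num at h3
  -- the conclusion
  have hle : ∑ χ ∈ insert (triv S) E.B.X, deg χ * a χ ≤ H.index := by
    rw [← hsum]
    exact Finset.sum_le_sum_of_subset (Finset.subset_univ _)
  rw [Finset.sum_insert E.triv_notMem, htriv, deg_triv] at hle
  have h1 : ∑ Θ ∈ E.B.X, deg Θ ≤ ∑ Θ ∈ E.B.X, deg Θ * a Θ :=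
    Finset.sum_le_sum fun Θ hΘ => Nat.le_mul_of_pos_right _ (hodd Θ hΘ)
  have h2 : ((∑ Θ ∈ E.B.X, deg Θ : ℕ) : ℤ) = E.t * E.v 1 := by
    rw [Nat.cast_sum, Finset.sum_congr rfl fun Θ hΘ => E.deg_eq hΘ, Finset.sum_const, E.B.card_X, nsmul_eq_mul]
  have h3 : ((1 * 1 + ∑ Θ ∈ E.B.X, deg Θ : ℕ) : ℤ) ≤ (H.index : ℤ) := by
    exact_mod_cast le_trans (by omega) hle
  rw [← h2]
  push_cast at h3 ⊢
  linarith

end Exc

end Cfsg.Agent.H702.Sieve
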