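import Cfsg.Agent.H474.RealCo.Three
import Cfsg.Agent.H474.RealCo.ExcMore
import Cfsg.Agent.H417.Divs
import Cfsg.Agent.H721.CoMat
import Cfsg.Agent.H721.Table
import Cfsg.Agent.H661.SporConway
import Cfsg.Agent.H800.ME.CoFacts

/-!
# `Co1` in REALB0: real elements of order 3, 5, 7, 11, 13; the prime 23 by the sieve (helper474)
-/

set_option autoImplicit false

namespace Cfsg.Agent.H474.RealCo

open Cfsg Cfsg.Agent.H702.RealB0 Cfsg.Agent.H702.Sieve

/-- T1 with the group-theoretic `HasReal` -/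
theorem of_real {p : ℕ} [Fact p.Prime] {G : Type*} [Group G] [Finite G] (h : Cfsg.Agent.H722.RealP.HasReal p G) :
    HasReal p G := by
  obtain ⟨x, hx, hc⟩ := h.isConj
  exact Cfsg.Agent.H706.RealB.hasReal_of_isConj_inv (by rw [hx]) hc

/-- the degree as a natural number -/
theorem Exc_deg {p : ℕ} [hp : Fact p.Prime] {S : Type*} [Group S] [Finite S] (E : Exc p S) :
    ∃ x : ℕ, E.v 1 = x ∧ x ∣ Nat.card S ∧ Odd x ∧ E.t * x ^ 2 < Nat.card S ∧
      ((p : ℤ) ∣ (x : ℤ) - E.e ∨ (p : ℤ) ∣ (x : ℤ) + E.e) := by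
  obtain ⟨x, hx⟩ := Int.eq_ofNat_of_zero_le E.v_one_pos.le
  refine ⟨x, hx, ?_, ?_, ?_, ?_⟩
  · have := E.v_one_dvd
    rw [hx] at this
    exact_mod_cast this
  · have := E.odd_v_one
    rw [hx] at this
    exact_mod_cast this
  · have := E.col_one
    rw [hx] at this
    exact_mod_cast this
  · have := E.dvd_sub
    rw [hx] at this
    rcases E.B.d_eq with h | h
    · left; rwa [h, mul_one] at this
    · right
      have e : (x : ℤ) - E.e * E.B.d = (x : ℤ) + E.e := by rw [h]; ring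
      rwa [e] at this

/-- the real elements -/
theorem not_pow {p : ℕ} [hp : Fact p.Prime] {S : Type*} [Group S] [Finite S] (E : Exc p S) {x : ℕ} (hx : E.v 1 = x)
    {r n : ℕ} (hr : r.Prime) (hrp : r ≠ p) (hn : r ^ n ∣ Nat.card S) (hn' : ¬ r ^ (n + 1) ∣ Nat.card S)
    (h : Cfsg.Agent.H722.RealP.HasReal r S) : ¬ r ^ n ∣ x := by
  obtain ⟨g, hg, hc⟩ := h.isConj
  have := E.not_pow_dvd hr hn hn' (g := g) (by
    rw [hg]; intro h; exact hrp ((Nat.prime_dvd_prime_iff_eq hp.out hr).1 h).symm) (by rw [hg]) hc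
  rw [hx] at this
  exact_mod_cast this

theorem not_comm_of_real {r : ℕ} (hr : 2 < r) {G : Type*} [Group G] (h : Cfsg.Agent.H722.RealP.HasReal r G) :
    ¬ IsMulCommutative G := by
  intro hc
  obtain ⟨x, hx, hcj⟩ := h.isConj
  obtain ⟨c, hc'⟩ := isConj_iff.1 hcj
  have h1 : x = x⁻¹ := by
    rw [← hc', hc.is_comm.comm c x, mul_assoc, mul_inv_cancel, mul_one]
  have h2 : x ^ 2 = 1 := by
    rw [pow_two]
    nth_rewrite 2 [h1]
    exact mul_inv_cancel x
  have h3 := Nat.le_of_dvd (by norm_num) (orderOf_dvd_of_pow_eq_one h2)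
  omega

/-- conjugate elements have centralisers of the same order -/
theorem card_cent_of_isConj {G : Type*} [Group G] [Finite G] {x y : G} (h : IsConj x y) :
    Nat.card ↥(Subgroup.centralizer ({x} : Set G)) = Nat.card ↥(Subgroup.centralizer ({y} : Set G)) := by
  have h1 := Subgroup.card_mul_index (Subgroup.centralizer ({x} : Set G))
  have h2 := Subgroup.card_mul_index (Subgroup.centralizer ({y} : Set G))
  have h3 := Cfsg.Agent.Blocks.Basic.index_centralizer_isConj h
  rw [h3, ← h2] at h1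
  exact Nat.eq_of_mul_eq_mul_right (Nat.pos_of_ne_zero Subgroup.index_ne_zero_of_finite) h1

/-- the candidates for `Co1` -/
def good1 (x : ℕ) : Bool :=
  Nat.beq (x % 2) 0 || !(Nat.beq (x % 23) 11 || Nat.beq (x % 23) 12) || Nat.beq (x % 3 ^ 9) 0 || Nat.beq (x % 5 ^ 4) 0 ||
    Nat.beq (x % 7 ^ 2) 0 || Nat.beq (x % 11) 0 || Nat.beq (x % 13) 0 || Nat.ble 4157776806543360000 (2 * x ^ 2) ||
    Nat.beq (x % 11) 2 || Nat.beq (x % 11) 4

theorem chk1 : (H417.Divs.divs [(2, 21), (3, 9), (5, 4), (7, 2), (11, 1), (13, 1), (23, 1)]).all good1 = true := by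
  decide +kernel

theorem e_eq {p e t : ℕ} (h : e * t = p - 1) (ho : Odd e) (h1 : 1 < e) {q : ℕ} (hq : q.Prime) (hp : p = 2 * q + 1) :
    e = q ∧ t = 2 := by
  have h2 : e * t = 2 * q := by rw [h, hp]; rfl
  have h3 : e ∣ q := by
    have h4 : e ∣ 2 * q := ⟨t, h2.symm⟩
    exact (Nat.Coprime.dvd_mul_left (Nat.coprime_two_right.2 ho)).1 h4
  rcases (Nat.dvd_prime hq).1 h3 with h4 | h4
  · omega
  · refine ⟨h4, ?_⟩
    rw [h4] at h2
    have := hq.pos
    nlinarith

theorem co1_23 : HasReal 23 Spor.Co1 := by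
  have : Fact (Nat.Prime 23) := ⟨by norm_num⟩
  have hcard := Cfsg.Agent.BpSpor.MBigCo.card_co1
  have hfin := Cfsg.Agent.BpSpor.MBigCo.finite_co1
  have hs : IsSimpleGroup Spor.Co1 := Cfsg.Agent.S0399.result.1
  by_contra hno
  obtain ⟨E⟩ := exists_exc (p := 23) (by norm_num) (not_comm_of_real (by norm_num) H721.CoM24.co1_eleven)
    (by rw [hcard]; norm_num) (by rw [hcard]; norm_num) hno
  obtain ⟨x, hx, hdvd, hodd, hlt, hmod⟩ := Exc_deg E
  obtain ⟨he, ht⟩ := e_eq (q := 11) E.het E.odd_e E.one_lt_e (by norm_num) (by norm_num)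
  have h3 := not_pow E hx (r := 3) (n := 9) Nat.prime_three (by norm_num) (by rw [hcard]; norm_num)
    (by rw [hcard]; norm_num) co1_three
  have h5 := not_pow E hx (r := 5) (n := 4) Nat.prime_five (by norm_num) (by rw [hcard]; norm_num)
    (by rw [hcard]; norm_num) H721.CoM24.co1_five
  have h7 := not_pow E hx (r := 7) (n := 2) Nat.prime_seven (by norm_num) (by rw [hcard]; norm_num)
    (by rw [hcard]; norm_num) H721.CoMat.co1_seven
  have h11 := not_pow E hx (r := 11) (n := 1) (by norm_num) (by norm_num) (by rw [hcard]; norm_num)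
    (by rw [hcard]; norm_num) H721.CoM24.co1_eleven
  have h13 := not_pow E hx (r := 13) (n := 1) (by norm_num) (by norm_num) (by rw [hcard]; norm_num)
    (by rw [hcard]; norm_num) H721.CoMat.co1_thirteen
  have hg := H417.Divs.all_divs _ (by
    intro y hy
    simp only [List.mem_cons, List.not_mem_nil, or_false] at hy
    rcases hy with rfl | rfl | rfl | rfl | rfl | rfl | rfl <;> norm_num) (N := Nat.card Spor.Co1)
      (by rw [hcard]; rfl) chk1 hdvd
  -- the element of order 11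
  obtain ⟨y, hy, hyr⟩ := H721.CoM24.co1_eleven.isConj
  have hreg : ¬ 23 ∣ orderOf y := by rw [hy]; norm_num
  have hcy : Nat.card ↥(Subgroup.centralizer ({y} : Set Spor.Co1)) = 66 := by
    obtain ⟨g, hg⟩ := Cfsg.Agent.H800.ME.CoFacts.conj_s hy
    rw [← Cfsg.Agent.H800.ME.CoFacts.card_cent]
    exact (card_cent_of_isConj (isConj_iff.2 ⟨g, hg⟩)).symm
  have hc := E.col hreg
  rw [hcy, ht] at hc
  have hov := E.odd_v y hreg hyr
  have hcg := E.congr_one (s := 11) (by norm_num) (by norm_num) (a := y) ⟨1, by rw [hy, pow_one]⟩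
  rw [hx] at hcg
  have hv : E.v y ^ 2 ≤ 32 := by push_cast at hc; linarith
  have hv1 : -5 ≤ E.v y := by nlinarith
  have hv2 : E.v y ≤ 5 := by nlinarith
  rw [he] at hmod
  rw [hcard, ht] at hlt
  generalize E.v y = w at *
  unfold good1 at hg
  simp only [Bool.or_eq_true, Bool.not_eq_true', Bool.or_eq_false_iff, Nat.beq_eq, Nat.ble_eq,
    ← Nat.dvd_iff_mod_eq_zero] at hg
  have hodd' := Nat.odd_iff.1 hodd
  rw [Int.odd_iff] at hov
  rcases hg with ((((((((h | h) | h) | h) | h) | h) | h) | h) | h) | h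
  · omega
  · obtain ⟨ha, hb⟩ := h
    have ha' := Nat.ne_of_beq_eq_false ha
    have hb' := Nat.ne_of_beq_eq_false hb
    rcases hmod with hmod | hmod <;> push_cast at hmod <;> omega
  · exact h3 h
  · exact h5 h
  · exact h7 h
  · exact h11 (by rwa [pow_one])
  · exact h13 (by rwa [pow_one])
  · omega
  · interval_cases w <;> omega
  · interval_cases w <;> omega

end Cfsg.Agent.H474.RealCo
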